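import Groth.Agent.PerfC.ResolAmple
import Groth.Agent.Ega2.AmpleAff
import Groth.Prelude.Def_KSix
import Groth.Prelude.Def_MoreMor

/-!
# Quotients of sums of negative powers of an ample family

* `hom_ext_of_affine`: morphisms out of a quasi-coherent module agreeing on sections over an affine cover agree;
* `exists_local`: one affine locus of a section of a positive power of an invertible module;
* `exists_quotient`: KSix form;  `hasResolutionProperty`;  `quasiSeparatedSpace_of_genLocus`.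
-/

set_option autoImplicit false
universe u v

open CategoryTheory CategoryTheory.Limits AlgebraicGeometry Opposite TopologicalSpace
open Groth.Agent.Fdesc.LocGen

namespace Groth.Agent.Pic13.H936.AmpFam

open Groth.Agent.Ega2.TensGen Groth.Agent.Ega2.TensPow Groth.Agent.Ega2.SecCalc
open Groth.Agent.Ega2.GlobGenCrit Groth.Agent.Ega2.AmpleGlobGen

variable {X : Scheme.{u}}

/-- Two morphisms out of a quasi-coherent module agree if they agree on sections over an affine open cover. -/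
theorem hom_ext_of_affine {M Z : X.Modules} (hM : Coh.IsQCoh M) (h₁ h₂ : M ⟶ Z)
    (h : ∀ x : X, ∃ U : X.Opens, x ∈ U ∧ IsAffineOpen U ∧ ∀ t : Γ(M, U), h₁.app U t = h₂.app U t) :
    h₁ = h₂ := by
  choose U hxU hU key using h
  apply Scheme.Modules.hom_ext
  intro V
  ext t
  have hloc : ∀ x : V, ∃ (W : X.Opens) (hW : W ≤ V), x.1 ∈ W ∧
      res Z hW (h₁.app V t) = res Z hW (h₂.app V t) := by
    intro x
    obtain ⟨f, hf, hxf⟩ := (hU x.1).exists_basicOpen_le ⟨x.1, x.2⟩ (hxU x.1)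
    refine ⟨X.basicOpen f, hf, hxf, ?_⟩
    obtain ⟨n, t', ht'⟩ := (Ega1.QCohLoc.isLocAt_of_isQCoh hM (hU x.1) f).surj (res M hf t)
    have ht'' : res M (X.basicOpen_le f) t' = ores (X.basicOpen_le f) f ^ n • res M hf t := ht'
    have hu : IsUnit (ores (X.basicOpen_le f) f ^ n) :=
      (X.toRingedSpace.isUnit_res_basicOpen f).pow n
    have e1 : h₁.app (X.basicOpen f) (res M (X.basicOpen_le f) t') =
        h₂.app (X.basicOpen f) (res M (X.basicOpen_le f) t') := by
      rw [app_res, app_res, key x.1 t']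
    rw [ht'', Scheme.Modules.Hom.app_smul, Scheme.Modules.Hom.app_smul] at e1
    have e2 := hu.smul_left_cancel.mp e1
    rw [app_res, app_res] at e2
    exact e2
  choose W hW hxW hres using hloc
  exact res_ext Z W hW (fun x hx => Opens.mem_iSup.mpr ⟨⟨x, hx⟩, hxW _⟩) hres

/-- A scheme covered by affine loci of sections of invertible modules is quasi-separated. -/
theorem quasiSeparatedSpace_of_genLocus
    (h : ∀ x : X, ∃ (L : X.Modules) (s : Coh.structureModule X ⟶ L), PicF.IsInvertible L ∧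
      x ∈ CohB1.genLocus L s ∧ IsAffineOpen (CohB1.genLocus L s)) : QuasiSeparatedSpace X := by
  choose L s hL hx hs using h
  refine Scheme.quasiSeparatedSpace_of_isOpenCover (fun x ↦ CohB1.genLocus (L x) (s x)) ?_
    (fun x ↦ hs x) ?_
  · rw [IsOpenCover, eq_top_iff]
    intro x _
    exact Opens.mem_iSup.2 ⟨x, hx x⟩
  · intro x y
    exact (Groth.Agent.Ega2.Weight.isAffineOpen_genLocus_inf (hL x) (s x) (hs y)).isCompact

/-- A scheme covered by affine loci of sections of invertible modules has affine intersections of affine opens. -/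
theorem isAffineHom_diagonal_aux
    (h : ∀ x : X, ∃ (L : X.Modules) (s : Coh.structureModule X ⟶ L), PicF.IsInvertible L ∧
      x ∈ CohB1.genLocus L s ∧ IsAffineOpen (CohB1.genLocus L s)) {U : X.Opens} (hU : IsAffineOpen U) :
    IsAffineHom U.ι := by
  choose L s hL hx hs using h
  refine isAffineHom_of_forall_exists_isAffineOpen _ fun x => ⟨_, hx x, hs x, ?_⟩
  rw [← Scheme.Hom.isAffineOpen_iff_of_isOpenImmersion U.ι,
    Scheme.Hom.image_preimage_eq_opensRange_inf, Scheme.Opens.opensRange_ι, inf_comm]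
  exact Groth.Agent.Ega2.Weight.isAffineOpen_genLocus_inf (hL x) (s x) hU

/-- One affine locus `U = X_s`, `s` a section of an invertible `K`: finitely many morphisms from a negative power of `K`
to `F` which jointly generate `F` over `U` (in the sense of cancellation). -/
theorem exists_local_aux [CompactSpace X] [QuasiSeparatedSpace X] {F K : X.Modules}
    (hK : PicF.IsInvertible K) (s : Coh.structureModule X ⟶ K)
    (haff : IsAffineOpen (CohB1.genLocus K s)) (hF : Coh.IsQCoh F) (hF' : CohB1.IsFT F) :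
    ∃ (m : ℕ) (N : X.Modules) (κ : Type u) (_ : Finite κ) (φ : κ → (N ⟶ F)), 0 < m ∧
      PicF.IsInvertible N ∧
      Nonempty (CohB1.tensorMod (CohB1.tensorPow K m) N ≅ Coh.structureModule X) ∧
      ∀ (Z : X.Modules) (f : F ⟶ Z), (∀ k, φ k ≫ f = 0) →
        ∀ t : Γ(F, CohB1.genLocus K s), f.app _ t = 0 := by
  classical
  obtain ⟨T, hT⟩ := (CohqB.FiniteType2.finite_sections_of_isFT F hF' haff).fg_top
  choose a ha using fun t : Γ(F, CohB1.genLocus K s) => exists_extend_top hF hK s t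
  let m := T.sup a + 1
  have hm : ∀ t ∈ T, a t ≤ m := fun t ht => (Finset.le_sup (f := a) ht).trans (Nat.le_succ _)
  choose t' ht' using fun t : T => ha t.1 m (hm t.1 t.2)
  have hKm : PicF.IsInvertible (CohB1.tensorPow K m) := isInvertible_tensorPow hK m
  obtain ⟨N, hN, ⟨e⟩⟩ := Grpsch.PicGrp.exists_inverse hKm
  let Φ := DCoh.tensorRightMod N
  let Ψ := DCoh.tensorRightMod (CohB1.tensorPow K m)
  let θ : Ψ ⋙ Φ ≅ 𝟭 X.Modules := PerfB.TensInv.tensorInvIso e
  let θ' : Φ ⋙ Ψ ≅ 𝟭 X.Modules := PerfB.TensInv.tensorInvIso (Ega2.Tens.swap _ _ ≪≫ e)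
  have hinj : ∀ {A B : X.Modules} (f : A ⟶ B), Φ.map f = 0 → f = 0 := by
    intro A B f hf
    have h1 := θ'.hom.naturality f
    have h2 : (Φ ⋙ Ψ).map f = 0 := by
      change Ψ.map (Φ.map f) = 0
      rw [hf, Functor.map_zero]
    rw [h2, zero_comp] at h1
    have h3 : θ'.hom.app A ≫ f = 0 := h1.symm
    rwa [← cancel_epi (θ'.hom.app A), comp_zero]
  let u : N ≅ Φ.obj (Coh.structureModule X) := (Ega2.Tens.lunit N).symm
  let θ₀ : ∀ A : X.Modules, Φ.obj (Ψ.obj A) ≅ A := fun A => θ.app A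
  have hθ₀ : ∀ {A B : X.Modules} (f : A ⟶ B),
      (θ₀ A).hom ≫ f = Φ.map (Ψ.map f) ≫ (θ₀ B).hom := fun f => (θ.hom.naturality f).symm
  let G : T → (Coh.structureModule X ⟶ Ψ.obj F) := fun t => homOf (t' t)
  refine ⟨m, N, ULift.{u} (Fin T.card), inferInstance,
    fun k => u.hom ≫ Φ.map (G (T.equivFin.symm k.down)) ≫ (θ₀ F).hom,
    Nat.succ_pos _, hN, ⟨e⟩, ?_⟩
  intro Z f hf t
  have h0 : ∀ t : T, G t ≫ Ψ.map f = 0 := by
    intro t
    obtain ⟨k, rfl⟩ := T.equivFin.symm.surjective t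
    apply hinj
    have h1 : (u.hom ≫ Φ.map (G (T.equivFin.symm k)) ≫ (θ₀ F).hom) ≫ f = 0 := hf ⟨k⟩
    rw [Category.assoc, Category.assoc, hθ₀ f, ← Functor.map_comp_assoc] at h1
    rw [← cancel_epi u.hom, ← cancel_mono (θ₀ Z).hom, Category.assoc, h1, comp_zero, zero_comp]
  have ht : t ∈ Submodule.span Γ(X, CohB1.genLocus K s) (T : Set Γ(F, CohB1.genLocus K s)) := by
    rw [hT]; trivial
  induction ht using Submodule.span_induction with
  | mem t ht =>
    have h1 : sec (homOf (t' ⟨t, ht⟩) ≫ Ψ.map f) (CohB1.genLocus K s) = 0 :=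
      congrArg (fun g => sec g (CohB1.genLocus K s)) (h0 ⟨t, ht⟩)
    rw [sec_comp, sec_homOf, ht' ⟨t, ht⟩] at h1
    have h2 : (Ega2.Tens.mapT f (𝟙 (CohB1.tensorPow K m))).app (CohB1.genLocus K s)
        (tmul t (pow (sec s (CohB1.genLocus K s)) m)) = 0 := by
      rw [← PerfB.TensExact.tensorRightMod_map_eq]
      exact h1
    rw [mapT_tmul] at h2
    exact tmul_gen_eq_zero ((isGen_sec_genLocus s).pow m) h2
  | zero => rw [map_zero]
  | add a b _ _ ha hb => rw [map_add, ha, hb, add_zero]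
  | smul r a _ ha => rw [Scheme.Modules.Hom.app_smul, ha, smul_zero]

/-- One affine locus `U = X_s`, `s` a section of `L ^ (n + 1)`: finitely many morphisms from a negative power of `L`
to `F` which jointly generate `F` over `U` (in the sense of cancellation). -/
theorem exists_local [CompactSpace X] [QuasiSeparatedSpace X] {F L : X.Modules}
    (hL : PicF.IsInvertible L) {n : ℕ} (s : Coh.structureModule X ⟶ CohB1.tensorPow L (n + 1))
    (haff : IsAffineOpen (CohB1.genLocus _ s)) (hF : Coh.IsQCoh F) (hF' : CohB1.IsFT F) :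
    ∃ (d : ℕ) (N : X.Modules) (κ : Type u) (_ : Finite κ) (φ : κ → (N ⟶ F)), 0 < d ∧
      PicF.IsInvertible N ∧
      Nonempty (CohB1.tensorMod N (CohB1.tensorPow L d) ≅ Coh.structureModule X) ∧
      ∀ (Z : X.Modules) (f : F ⟶ Z), (∀ k, φ k ≫ f = 0) →
        ∀ t : Γ(F, CohB1.genLocus _ s), f.app _ t = 0 := by
  obtain ⟨m, N, κ, hκ, φ, hm, hN, ⟨e⟩, h⟩ :=
    exists_local_aux (isInvertible_tensorPow hL (n + 1)) s haff hF hF'
  exact ⟨(n + 1) * m, N, κ, hκ, φ, Nat.mul_pos (Nat.succ_pos _) hm, hN,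
    ⟨Ega2.Tens.mapTIso (Iso.refl N) (powMul L (n + 1) m).symm ≪≫ Ega2.Tens.swap _ _ ≪≫ e⟩, h⟩

/-- Global version: finitely many morphisms from negative powers of members of the family, jointly epimorphic. -/
theorem exists_family [CompactSpace X] [QuasiSeparatedSpace X] {F : X.Modules}
    (hF : Coh.IsQCoh F) (hF' : CohB1.IsFT F) (P : X.Modules → Prop)
    (h : ∀ x : X, ∃ (L : X.Modules) (n : ℕ) (s : Coh.structureModule X ⟶ CohB1.tensorPow L (n + 1)),
      PicF.IsInvertible L ∧ x ∈ CohB1.genLocus _ s ∧ IsAffineOpen (CohB1.genLocus _ s) ∧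
      ∀ (N : X.Modules) (d : ℕ), 0 < d → PicF.IsInvertible N →
        Nonempty (CohB1.tensorMod N (CohB1.tensorPow L d) ≅ Coh.structureModule X) → P N) :
    ∃ (k : ℕ) (N : Fin k → X.Modules) (φ : ∀ j, N j ⟶ F), (∀ j, P (N j)) ∧
      ∀ (Z : X.Modules) (f : F ⟶ Z), (∀ j, φ j ≫ f = 0) → f = 0 := by
  classical
  choose L n s hL hx hs hP using h
  choose d N κ hκ φ hd hN hNd hφ using fun x => exists_local (hL x) (s x) (hs x) hF hF'
  obtain ⟨I, hI⟩ := (isCompact_univ (X := X)).elim_finite_subcover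
    (fun x => (CohB1.genLocus _ (s x) : Set X)) (fun x => (CohB1.genLocus _ (s x)).2)
    (fun x _ => Set.mem_iUnion.mpr ⟨x, hx x⟩)
  let J := Σ x : I, κ x.1
  obtain ⟨k, ⟨e⟩⟩ := Finite.exists_equiv_fin J
  refine ⟨k, fun j => N (e.symm j).1.1, fun j => φ (e.symm j).1.1 (e.symm j).2,
    fun j => hP _ _ _ (hd _) (hN _) (hNd _), fun Z f hf => ?_⟩
  refine hom_ext_of_affine hF f 0 fun x => ?_
  obtain ⟨i, hi, hxi⟩ := Set.mem_iUnion₂.mp (hI (Set.mem_univ x))
  refine ⟨_, hxi, hs i, fun t => ?_⟩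
  rw [hφ i Z f (fun q => ?_) t]
  · rfl
  · have hf' : ∀ p : J, φ p.1.1 p.2 ≫ f = 0 := fun p => by
      obtain ⟨j, rfl⟩ := e.symm.surjective p
      exact hf j
    exact hf' ⟨⟨i, hi⟩, q⟩

theorem exists_quotient [CompactSpace X] [QuasiSeparatedSpace X] {F : X.Modules}
    (hF : Coh.IsQCoh F) (hF' : CohB1.IsFT F) (P : X.Modules → Prop)
    (h : ∀ x : X, ∃ (L : X.Modules) (n : ℕ) (s : Coh.structureModule X ⟶ CohB1.tensorPow L (n + 1)),
      PicF.IsInvertible L ∧ x ∈ CohB1.genLocus _ s ∧ IsAffineOpen (CohB1.genLocus _ s) ∧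
      ∀ (N : X.Modules) (d : ℕ), 0 < d → PicF.IsInvertible N →
        Nonempty (CohB1.tensorMod N (CohB1.tensorPow L d) ≅ Coh.structureModule X) → P N) :
    ∃ (k : ℕ) (N : Fin k → X.Modules) (π : (⨁ N) ⟶ F), (∀ j, P (N j)) ∧ Epi π := by
  obtain ⟨k, N, φ, hN, hφ⟩ := exists_family hF hF' P h
  refine ⟨k, N, biproduct.desc φ, hN, Preadditive.epi_of_cancel_zero _ fun {Z} f hf => ?_⟩
  refine hφ Z f fun j => ?_
  rw [← biproduct.ι_desc φ j, Category.assoc, hf, comp_zero]

/-- S4269. -/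
theorem exists_inAddL {ι : Type v} (L : ι → X.Modules)
    (hL : KSix.IsAmpleFamily L) (F : X.Modules) (hF : Coh.IsQCoh F) (hF' : CohB1.IsFT F) :
    ∃ (M : X.Modules) (π : M ⟶ F), KSix.InAddL L M ∧ Epi π := by
  obtain ⟨hc, hqs, hinv, h⟩ := hL
  obtain ⟨k, N, π, hN, hπ⟩ := exists_quotient hF hF' (KSix.IsNegPower L) fun x => by
    obtain ⟨i, n, s, hx, hs⟩ := h x
    exact ⟨L i, n, s, hinv i, hx, hs, fun N d hd _ hN => ⟨i, d, hd, hN⟩⟩
  exact ⟨⨁ N, π, ⟨k, N, hN, ⟨Iso.refl _⟩⟩, hπ⟩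

/-- S4270. -/
theorem hasResolutionProperty (hX : MoreMor.HasAmpleFamily X) : PerfAux.HasResolutionProperty X := by
  classical
  obtain ⟨hc, h⟩ := hX
  have hqs : QuasiSeparatedSpace X := quasiSeparatedSpace_of_genLocus fun x => by
    obtain ⟨L, n, s, hL, hn, hx, hs⟩ := h x
    exact ⟨_, s, isInvertible_tensorPow hL n, hx, hs⟩
  intro F hF hF'
  obtain ⟨k, N, φ, hN, hφ⟩ := exists_family hF hF' PicF.IsInvertible fun x => by
    obtain ⟨L, n, s, hL, hn, hx, hs⟩ := h x
    obtain ⟨n, rfl⟩ := Nat.exists_eq_add_of_le' hn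
    exact ⟨L, n, s, hL, hx, hs, fun N d hd hN _ => hN⟩
  obtain ⟨E, π, hE, hπ⟩ := PerfC.AmpleFamily.exists_common (Finset.univ : Finset (Fin k)) N φ
    (fun j => Ega2.QCohLocal.isFinLocFree_of_rank
      (Ega2.QCohLocal.isFinLocFreeOfRank_one_iff.mpr (hN j)))
  refine ⟨E, π, hE, Preadditive.epi_of_cancel_zero _ fun {Z} f hf => hφ Z f fun j => ?_⟩
  obtain ⟨g, hg⟩ := hπ j (Finset.mem_univ j)
  rw [← hg, Category.assoc, hf, comp_zero]

end Groth.Agent.Pic13.H936.AmpFam
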